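import Cfsg.Agent.H358.A3.Def
import Cfsg.Agent.Blocks.PrincipalInflate
import Cfsg.Agent.Blocks.ExistsModular
import Cfsg.Agent.Blocks.OsimaUnion
import Cfsg.Agent.Blocks.Orthogonality
import Cfsg.Agent.Blocks.Covering
import Cfsg.Agent.Blocks.HeightZero
import Cfsg.Agent.S0941
import Cfsg.Agent.S0964
import Cfsg.Agent.S0967
import Cfsg.Agent.S4432

/-!
# S4612, task A3b: `PQ` for normal subgroups and quotients (helper358)
-/

set_option autoImplicit false

open Cfsg Cfsg.Agent.H317.PQ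

namespace Cfsg.Agent.H358.A3

open scoped ComplexConjugate
open Cfsg.Agent.Blocks.Local

universe u

variable {p q : ℕ} {G : Type u} [Group G]

/-- the trivial character -/
def oneC (G : Type u) [Group G] : IrrCharacter G := ⟨fun _ => 1, Blocks.Basic.isIrrCharacter_one⟩

theorem oneC_mem {M : Ideal AlgInt} [M.IsPrime] : oneC G ∈ principalBlock M G :=
  Blocks.PrincipalSection.one_mem_principalBlock

/-- the constituents of the restrictions of the members of `B0 p G` are in `B0 p N` -/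
theorem mem_B0_of_over [Fintype G] (hp : p.Prime) (N : Subgroup G) [N.Normal] [Fintype N] {χ : IrrCharacter G}
    (hχ : χ ∈ B0 p G) {θ : IrrCharacter N} (h : classInner (fun n : N => (χ : G → ℂ) n) (θ : N → ℂ) ≠ 0) :
    θ ∈ B0 p N := by
  have : Fact p.Prime := ⟨hp⟩
  obtain ⟨M, hM⟩ := Blocks.ExistsModular.exists_isPModular hp
  have hMp := isPrime_of_isPModular hM
  rw [B0_eq hp hM] at hχ ⊢
  have hcon : classInner (fun n : N => (oneC G : G → ℂ) n) (oneC N : N → ℂ) ≠ 0 := by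
    have h1 : (fun n : N => (oneC G : G → ℂ) n) = (oneC N : N → ℂ) := rfl
    rw [h1, Characters.Core.classInner_irr_self (oneC N).2]
    exact one_ne_zero
  obtain ⟨g, θ', hθ', hn⟩ := S0964.result p M hM N (principalBlock M G) Blocks.PrincipalSection.isPBlock_principalBlock
    (principalBlock M N) Blocks.PrincipalSection.isPBlock_principalBlock (oneC G) oneC_mem (oneC N) oneC_mem hcon χ hχ θ h
  have h2 : SameBlock M (oneC N : N → ℂ) (θ' : N → ℂ) := hθ'
  have h3 := Blocks.Covering.sameBlock_conjIrr N g h2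
  have h4 : (Blocks.Covering.conjIrr N g (oneC N) : N → ℂ) = (oneC N : N → ℂ) := rfl
  have h5 : (Blocks.Covering.conjIrr N g θ' : N → ℂ) = (θ : N → ℂ) := by
    funext n
    rw [Blocks.Covering.conjIrr_apply, hn]
    rfl
  rw [h4, h5] at h3
  exact h3

/-- every member of `B0 p N` is a constituent of the restriction of a member of `B0 p G` -/
theorem exists_over_B0 [Fintype G] (hp : p.Prime) (N : Subgroup G) [N.Normal] [Fintype N] {θ : IrrCharacter N}
    (hθ : θ ∈ B0 p N) : ∃ χ ∈ B0 p G, classInner (fun n : N => (χ : G → ℂ) n) (θ : N → ℂ) ≠ 0 := by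
  have : Fact p.Prime := ⟨hp⟩
  obtain ⟨M, hM⟩ := Blocks.ExistsModular.exists_isPModular hp
  have hMp := isPrime_of_isPModular hM
  rw [B0_eq hp hM] at hθ ⊢
  have hcon : classInner (fun n : N => (oneC G : G → ℂ) n) (oneC N : N → ℂ) ≠ 0 := by
    have h1 : (fun n : N => (oneC G : G → ℂ) n) = (oneC N : N → ℂ) := rfl
    rw [h1, Characters.Core.classInner_irr_self (oneC N).2]
    exact one_ne_zero
  exact S4432.result p M hM N (principalBlock M G) Blocks.PrincipalSection.isPBlock_principalBlock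
    (principalBlock M N) Blocks.PrincipalSection.isPBlock_principalBlock
    ⟨oneC G, oneC_mem, oneC N, oneC_mem, hcon⟩ θ hθ

theorem PQ.normal [Finite G] (hp : p.Prime) (hq : q.Prime) (_hpq : p ≠ q) (h : PQ p q G) (N : Subgroup G)
    [N.Normal] : PQ p q N := by
  have := Fintype.ofFinite G
  have := Fintype.ofFinite N
  have : Fact q.Prime := ⟨hq⟩
  intro M hM χ ψ hχψ hχ
  have hMp := isPrime_of_isPModular hM
  obtain ⟨χ', hχ', hc⟩ := exists_over_B0 hp N hχ
  obtain ⟨ψ', hψ', hd⟩ := S4432.result q M hM N (blockOf M (χ' : G → ℂ)) ⟨χ', rfl⟩ (blockOf M (χ : N → ℂ)) ⟨χ, rfl⟩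
    ⟨χ', Blocks.Basic.sameBlock_refl _, χ, Blocks.Basic.sameBlock_refl _, hc⟩ ψ hχψ
  exact mem_B0_of_over hp N (h M hM χ' ψ' hψ' hχ') hd

/-- the inflation -/
def infl (N : Subgroup G) [N.Normal] (χ : IrrCharacter (G ⧸ N)) : IrrCharacter G :=
  ⟨(χ : G ⧸ N → ℂ) ∘ (QuotientGroup.mk' N), Characters.Core.isIrr_comp (QuotientGroup.mk' N)
    (QuotientGroup.mk'_surjective N) χ.2⟩

theorem infl_apply (N : Subgroup G) [N.Normal] (χ : IrrCharacter (G ⧸ N)) :
    (infl N χ : G → ℂ) = (χ : G ⧸ N → ℂ) ∘ (QuotientGroup.mk : G → G ⧸ N) := rfl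

theorem sameBlock_infl {M : Ideal AlgInt} [M.IsPrime] (N : Subgroup G) [N.Normal] {χ ψ : IrrCharacter (G ⧸ N)}
    (h : SameBlock M (χ : G ⧸ N → ℂ) (ψ : G ⧸ N → ℂ)) : SameBlock M (infl N χ : G → ℂ) (infl N ψ : G → ℂ) :=
  S0941.sameBlock_inflate N h

theorem infl_mem [Finite G] (hp : p.Prime) (N : Subgroup G) [N.Normal] {χ : IrrCharacter (G ⧸ N)}
    (h : χ ∈ B0 p (G ⧸ N)) : infl N χ ∈ B0 p G := by
  have : Fact p.Prime := ⟨hp⟩
  obtain ⟨M, hM⟩ := Blocks.ExistsModular.exists_isPModular hp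
  have hMp := isPrime_of_isPModular hM
  rw [B0_eq hp hM] at h ⊢
  exact sameBlock_infl N (χ := oneC (G ⧸ N)) h

/-- quotients with the same principal block -/
theorem PQ.quot_of [Finite G] (hp : p.Prime) (h : PQ p q G) (N : Subgroup G) [N.Normal]
    (hN : ∀ ψ : IrrCharacter (G ⧸ N), infl N ψ ∈ B0 p G → ψ ∈ B0 p (G ⧸ N)) : PQ p q (G ⧸ N) := by
  intro M hM χ ψ hχψ hχ
  have hMp := isPrime_of_isPModular hM
  exact hN ψ (h M hM _ _ (sameBlock_infl N hχψ) (infl_mem hp N hχ))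

theorem PQ.quot_core [Finite G] (hp : p.Prime) (_hq : q.Prime) (_hpq : p ≠ q) (h : PQ p q G) (N : Subgroup G)
    [N.Normal] (hN : ¬ p ∣ Nat.card N) : PQ p q (G ⧸ N) := by
  refine PQ.quot_of hp h N fun ψ hψ => ?_
  have : Fact p.Prime := ⟨hp⟩
  obtain ⟨M, hM⟩ := Blocks.ExistsModular.exists_isPModular hp
  have hMp := isPrime_of_isPModular hM
  rw [B0_eq hp hM] at hψ ⊢
  obtain ⟨ψ', h1, h2⟩ := S0967.result p M hM N hN (oneC (G ⧸ N)) (infl N ψ) hψ
  have h3 : ψ = ψ' := by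
    apply Subtype.ext
    funext x
    obtain ⟨g, rfl⟩ := QuotientGroup.mk_surjective x
    exact congrFun h1 g
  rw [h3]
  exact h2

theorem PQ.quot_center [Finite G] (hp : p.Prime) (_hq : q.Prime) (_hpq : p ≠ q) (h : PQ p q G) (Z : Subgroup G)
    [Z.Normal] (hZ : Z ≤ Subgroup.center G) (hZp : IsPGroup p Z) : PQ p q (G ⧸ Z) := by
  refine PQ.quot_of hp h Z fun ψ hψ => ?_
  have : Fact p.Prime := ⟨hp⟩
  obtain ⟨M, hM⟩ := Blocks.ExistsModular.exists_isPModular hp
  have hMp := isPrime_of_isPModular hM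
  rw [B0_eq hp hM] at hψ ⊢
  have hc : Subgroup.centralizer (Z : Set G) = ⊤ := by
    rw [eq_top_iff]
    intro g _
    rw [Subgroup.mem_centralizer_iff]
    intro z hz
    exact (Subgroup.mem_center_iff.1 (hZ hz) g).symm
  exact ((S0941.result p M hM Z hZp ⟨0, by rw [hc, Subgroup.index_top, pow_zero]⟩).1 (oneC (G ⧸ Z)) ψ).2 hψ

theorem PQ.core [Finite G] (hp : p.Prime) (hq : q.Prime) (_hpq : p ≠ q) (h : PQ p q G) (N : Subgroup G)
    [N.Normal] (hN : ¬ p ∣ Nat.card N) : ¬ q ∣ Nat.card N := by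
  classical
  intro hqN
  have : Fact p.Prime := ⟨hp⟩
  have : Fact q.Prime := ⟨hq⟩
  have := Fintype.ofFinite G
  obtain ⟨M, hM⟩ := Blocks.ExistsModular.exists_isPModular hp
  obtain ⟨M', hM'⟩ := Blocks.ExistsModular.exists_isPModular hq
  have hMp := isPrime_of_isPModular hM
  obtain ⟨n, hn⟩ := exists_prime_orderOf_dvd_card' q hqN
  have hR : ∀ g, MemLocalRing M' (blockCoeff (B0 p G) g) := fun g =>
    Blocks.OsimaUnion.memLocalRing_blockCoeff_union q hM' _ (fun χ hχ ψ hψ => h M' hM' χ ψ hψ hχ) g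
  have h0 := Blocks.Orthogonality.weak_block_orthogonality hM' (B0 p G) hR (x := (1 : G)) (y := (n : G))
    (by rw [orderOf_one]; exact hq.one_lt.ne' ∘ Nat.dvd_one.1) (by rw [Subgroup.orderOf_coe, hn])
  have : Finite (IrrCharacter G) := S0909.finite_irr
  have := Fintype.ofFinite (IrrCharacter G)
  rw [Blocks.Orthogonality.finsum_mem_eq_sum_filter, Finset.sum_congr rfl
    (g := fun χ : IrrCharacter G => (((charDegree (χ : G → ℂ)) ^ 2 : ℕ) : ℂ)), ← Nat.cast_sum, Nat.cast_eq_zero,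
    Finset.sum_eq_zero_iff] at h0
  · have h1 := h0 (oneC G) (Finset.mem_filter.2 ⟨Finset.mem_univ _, by rw [B0_eq hp hM]; exact oneC_mem⟩)
    exact (Blocks.HeightZero.charDegree_cast (oneC G)).2 (pow_eq_zero_iff (two_ne_zero)|>.1 h1)
  · intro χ hχ
    rw [Finset.mem_filter, B0_eq hp hM] at hχ
    rw [Blocks.PrincipalKernel.principalBlock_apply_eq hM hN hχ.2 n.2, Blocks.Orthogonality.conj_irr_one χ.2,
      ← (Blocks.HeightZero.charDegree_cast χ).1, Nat.cast_pow, pow_two]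

end Cfsg.Agent.H358.A3
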