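import Cfsg.Agent.H317.PQ.Defs

/-!
# S4612: `PQ p q G` : the principal `p`-block is a union of `q`-blocks
-/

set_option autoImplicit false

open Cfsg Cfsg.Agent.H317.PQ

namespace Cfsg.Agent.H358.A3

universe u

/-- the principal `p`-block is a union of `q`-blocks -/
def PQ (p q : ℕ) (G : Type u) [Group G] : Prop :=
  ∀ M : Ideal AlgInt, IsPModular q M → ∀ χ ψ : IrrCharacter G, SameBlock M (χ : G → ℂ) (ψ : G → ℂ) →
    χ ∈ B0 p G → ψ ∈ B0 p G

end Cfsg.Agent.H358.A3
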